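import Mathlib

/-!
# Faithfully flat descent of elements along a finite family
-/

set_option autoImplicit false
universe u

open TensorProduct

namespace GrothLib.QcDesc1

variable {A : Type u} [CommRing A] {κ : Type u} {B : κ → Type u} [∀ k, CommRing (B k)] [∀ k, Algebra A (B k)]

/-- A jointly surjective flat family detects elements of modules. -/
theorem eq_zero_of_forall (hflat : ∀ k, Module.Flat A (B k))
    (hsurj : ∀ p : PrimeSpectrum A, ∃ k, ∃ q : PrimeSpectrum (B k), PrimeSpectrum.comap (algebraMap A (B k)) q = p)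
    {Q : Type u} [AddCommGroup Q] [Module A Q] (q : Q) (h : ∀ k, (1 : B k) ⊗ₜ[A] q = 0) : q = 0 := by
  by_contra hq
  let J : Ideal A := LinearMap.ker (LinearMap.toSpanSingleton A Q q)
  have hJ : J ≠ ⊤ := fun e => hq (by
    have : (1 : A) ∈ J := (Ideal.eq_top_iff_one J).1 e
    simpa [J] using this)
  obtain ⟨m, hm, hJm⟩ := Ideal.exists_le_maximal J hJ
  obtain ⟨k, P, hP⟩ := hsurj ⟨m, hm.isPrime⟩
  have hc : J.map (algebraMap A (B k)) ≤ P.asIdeal := by
    refine Ideal.map_le_iff_le_comap.2 (hJm.trans (le_of_eq ?_))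
    exact (congrArg PrimeSpectrum.asIdeal hP).symm
  let i : (A ⧸ J) →ₗ[A] Q := J.liftQ (LinearMap.toSpanSingleton A Q q) le_rfl
  have hi : Function.Injective i := LinearMap.ker_eq_bot.1 (Submodule.ker_liftQ_eq_bot _ _ _ le_rfl)
  haveI := hflat k
  have h1 : (1 : B k) ⊗ₜ[A] (Submodule.Quotient.mk 1 : A ⧸ J) = 0 := by
    refine Module.Flat.lTensor_preserves_injective_linearMap (M := B k) i hi ?_
    rw [map_zero, LinearMap.lTensor_tmul, show i (Submodule.Quotient.mk 1) = q by
      simp only [i, Submodule.liftQ_apply, LinearMap.toSpanSingleton_apply, one_smul]]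
    exact h k
  let η : B k ⊗[A] (A ⧸ J) →ₐ[A] B k ⧸ J.map (algebraMap A (B k)) :=
    Algebra.TensorProduct.lift (Ideal.Quotient.mkₐ A _)
      (Ideal.Quotient.liftₐ J (Algebra.ofId A _) fun a ha => by
        rw [Algebra.ofId_apply, IsScalarTower.algebraMap_apply A (B k) (B k ⧸ _), Ideal.Quotient.algebraMap_eq, Ideal.Quotient.eq_zero_iff_mem]
        exact Ideal.mem_map_of_mem _ ha)
      (fun _ _ => Commute.all _ _)
  have h2 : (1 : B k ⧸ J.map (algebraMap A (B k))) = 0 := by
    rw [← map_one η, Algebra.TensorProduct.one_def]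
    exact (congrArg η h1).trans (map_zero η)
  rw [← map_one (Ideal.Quotient.mk _), Ideal.Quotient.eq_zero_iff_mem] at h2
  exact P.isPrime.ne_top ((Ideal.eq_top_iff_one _).2 (hc h2))

/-- Elements agreeing on overlaps descend. -/
theorem exists_descend [Finite κ] (hflat : ∀ k, Module.Flat A (B k))
    (hsurj : ∀ p : PrimeSpectrum A, ∃ k, ∃ q : PrimeSpectrum (B k), PrimeSpectrum.comap (algebraMap A (B k)) q = p)
    {N : Type u} [AddCommGroup N] [Module A N] (z : ∀ k, B k ⊗[A] N)
    (h : ∀ k l, (Algebra.TensorProduct.includeLeft : B k →ₐ[A] B k ⊗[A] B l).toLinearMap.rTensor N (z k) =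
      (Algebra.TensorProduct.includeRight : B l →ₐ[A] B k ⊗[A] B l).toLinearMap.rTensor N (z l)) :
    ∃ y : N, ∀ k, (1 : B k) ⊗ₜ[A] y = z k := by
  classical
  haveI := Fintype.ofFinite κ
  let η : N →ₗ[A] (∀ k, B k ⊗[A] N) := LinearMap.pi fun k => TensorProduct.mk A (B k) N 1
  have key : (LinearMap.range η).mkQ z = 0 := eq_zero_of_forall hflat hsurj _ fun k => by
    let Ψ : B k ⊗[A] (∀ l, B l ⊗[A] N) →ₗ[A] ∀ l, (B k ⊗[A] B l) ⊗[A] N :=
      (LinearEquiv.piCongrRight fun l => (TensorProduct.assoc A (B k) (B l) N).symm).toLinearMap ∘ₗ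
        (TensorProduct.piRight A A (B k) (fun l => B l ⊗[A] N)).toLinearMap
    have hΨ : Function.Injective Ψ := by
      simp only [Ψ, LinearMap.coe_comp, LinearEquiv.coe_coe]
      exact (LinearEquiv.injective _).comp (LinearEquiv.injective _)
    have e : (1 : B k) ⊗ₜ[A] z = η.lTensor (B k) (z k) := by
      refine hΨ (funext fun l => ?_)
      have h1 : Ψ ((1 : B k) ⊗ₜ[A] z) l =
          (Algebra.TensorProduct.includeRight : B l →ₐ[A] B k ⊗[A] B l).toLinearMap.rTensor N (z l) := by
        show (TensorProduct.assoc A (B k) (B l) N).symm ((TensorProduct.piRight A A (B k) fun l => B l ⊗[A] N)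
          ((1 : B k) ⊗ₜ[A] z) l) = _
        rw [TensorProduct.piRight_apply, TensorProduct.piRightHom_tmul]
        dsimp only
        generalize z l = w
        induction w using TensorProduct.induction_on with
        | zero => simp
        | tmul b m => simp
        | add a b ha hb => rw [TensorProduct.tmul_add, map_add, map_add, ha, hb]
      rw [h1, ← h k l]
      generalize z k = w
      induction w using TensorProduct.induction_on with
      | zero => simp
      | tmul b m =>
        show _ = (TensorProduct.assoc A (B k) (B l) N).symm ((TensorProduct.piRight A A (B k) fun l => B l ⊗[A] N)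
          (η.lTensor (B k) (b ⊗ₜ[A] m)) l)
        rw [LinearMap.lTensor_tmul, TensorProduct.piRight_apply, TensorProduct.piRightHom_tmul]
        dsimp only
        simp [η]
      | add a b ha hb => simp only [map_add, Pi.add_apply, ha, hb]
    rw [← LinearMap.lTensor_tmul, e, ← LinearMap.comp_apply, ← LinearMap.lTensor_comp, LinearMap.range_mkQ_comp,
      LinearMap.lTensor_zero, LinearMap.zero_apply]
  obtain ⟨y, hy⟩ := (Submodule.Quotient.mk_eq_zero _).1 key
  exact ⟨y, fun k => congrFun hy k⟩

end GrothLib.QcDesc1
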