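import Groth.Agent.Lib.QcDesc1.Alg
import Groth.Agent.Lib.FunMor20.BCProj
import Groth.Agent.Lib.EtQc13.AssocRes
import Groth.Agent.Lib.FundIso27.Frame
import Groth.Prelude.Def_Desc

/-!
# Morphisms of quasi-coherent modules descend along fpqc coverings
-/

set_option autoImplicit false
universe u

open CategoryTheory CategoryTheory.Limits AlgebraicGeometry Opposite TopologicalSpace TensorProduct
open GrothLib.InvExt (mres)
open GrothLib.QCoh (pullSec sectionsMap)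

set_option backward.isDefEq.respectTransparency false

noncomputable section

namespace GrothLib.QcDesc1

/-- The composition isomorphism of inverse images. -/
def cT {X Y S : Scheme.{u}} (f : X ⟶ S) (g : Y ⟶ X) (q : Y ⟶ S) (h : g ≫ f = q) (M : S.Modules) :
    (Scheme.Modules.pullback g).obj ((Scheme.Modules.pullback f).obj M) ≅ (Scheme.Modules.pullback q).obj M where
  hom := (Desc.modPF.mapComp' f.op.toLoc g.op.toLoc q.op.toLoc (by subst h; rfl)).inv.toNatTrans.app M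
  inv := (Desc.modPF.mapComp' f.op.toLoc g.op.toLoc q.op.toLoc (by subst h; rfl)).hom.toNatTrans.app M
  hom_inv_id := (Cat.Hom.toNatIso (Desc.modPF.mapComp' f.op.toLoc g.op.toLoc q.op.toLoc (by subst h; rfl))).inv_hom_id_app M
  inv_hom_id := (Cat.Hom.toNatIso (Desc.modPF.mapComp' f.op.toLoc g.op.toLoc q.op.toLoc (by subst h; rfl))).hom_inv_id_app M

theorem cT_hom_pullSec {X Y S : Scheme.{u}} (f : X ⟶ S) (g : Y ⟶ X) (q : Y ⟶ S) (h : g ≫ f = q) (M : S.Modules)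
    {V : S.Opens} {Q : X.Opens} {P : Y.Opens} (e₁ : Q ≤ f ⁻¹ᵁ V) (e₂ : P ≤ g ⁻¹ᵁ Q) (e₃ : P ≤ q ⁻¹ᵁ V) (t : Γ(M, V)) :
    (cT f g q h M).hom.app P (pullSec g _ e₂ (pullSec f M e₁ t)) = pullSec q M e₃ t := by
  subst h
  refine Eq.trans ?_ (EtQc13.pullSec_pullSec g f M e₁ e₂ e₃ t)
  simp only [cT, Pseudofunctor.mapComp'_eq_mapComp]
  rfl

theorem fromSpec_appLE {X : Scheme.{u}} {P : X.Opens} (hP : IsAffineOpen P) {R : CommRingCat.{u}} (φ : Γ(X, P) ⟶ R)
    (e : (⊤ : (Spec R).Opens) ≤ (Spec.map φ ≫ hP.fromSpec) ⁻¹ᵁ P) :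
    (Spec.map φ ≫ hP.fromSpec).appLE P ⊤ e = φ ≫ (Scheme.ΓSpecIso R).inv := by
  rw [Scheme.Hom.comp_appLE, hP.fromSpec_app_self, Category.assoc, Scheme.Hom.map_appLE,
    Scheme.Hom.appLE, ← Scheme.ΓSpecIso_inv_naturality_assoc]
  simp [Scheme.Hom.appTop]

variable {ι : Type u} {S : Scheme.{u}} {X : ι → Scheme.{u}} (f : ∀ i, X i ⟶ S) (M N : S.Modules)

variable {f M N} in
/-- A component of a morphism of descent data. -/
abbrev hm (h : (Desc.modPF.{u}.toDescentData f).obj M ⟶ (Desc.modPF.{u}.toDescentData f).obj N) (i : ι) :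
    (Scheme.Modules.pullback (f i)).obj M ⟶ (Scheme.Modules.pullback (f i)).obj N := h.hom i

theorem comm_aux {W : Scheme.{u}} {A A₂ B B₂ C D : W.Modules} (a : A ⟶ B) (b : A₂ ⟶ B₂) (n₁ : B ≅ C) (n₂ : B₂ ≅ C)
    (m₁ : A ≅ D) (m₂ : A₂ ≅ D) (hc : a ≫ n₁.hom ≫ n₂.inv = (m₁.hom ≫ m₂.inv) ≫ b) {T : W.Opens} (z₁ : Γ(A, T))
    (z₂ : Γ(A₂, T)) (hz : m₁.hom.app T z₁ = m₂.hom.app T z₂) :
    n₁.hom.app T (a.app T z₁) = n₂.hom.app T (b.app T z₂) := by
  have hc' : a ≫ n₁.hom = (m₁.hom ≫ m₂.inv) ≫ b ≫ n₂.hom := by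
    rw [← Category.assoc (m₁.hom ≫ m₂.inv), ← hc, Category.assoc, Category.assoc, Iso.inv_hom_id, Category.comp_id]
  have h1 : n₁.hom.app T (a.app T z₁) = n₂.hom.app T (b.app T (m₂.inv.app T (m₁.hom.app T z₁))) :=
    congr($(hc').app T z₁)
  rw [h1, hz]
  exact congrArg (fun v => n₂.hom.app T (b.app T v)) congr($(m₂.hom_inv_id).app T z₂)

set_option maxHeartbeats 1000000 in
/-- Compatibility of a morphism of descent data on sections. -/
theorem comm_sec (h : (Desc.modPF.{u}.toDescentData f).obj M ⟶ (Desc.modPF.{u}.toDescentData f).obj N)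
    {V : S.Opens} (x : Γ(M, V)) {i j : ι} {P : (X i).Opens} {Q : (X j).Opens} (eP : P ≤ f i ⁻¹ᵁ V) (eQ : Q ≤ f j ⁻¹ᵁ V)
    {W : Scheme.{u}} (g₁ : W ⟶ X i) (g₂ : W ⟶ X j) (q : W ⟶ S) (h₁ : g₁ ≫ f i = q) (h₂ : g₂ ≫ f j = q)
    {T : W.Opens} (e₁ : T ≤ g₁ ⁻¹ᵁ P) (e₂ : T ≤ g₂ ⁻¹ᵁ Q) (e : T ≤ q ⁻¹ᵁ V) :
    (cT (f i) g₁ q h₁ N).hom.app T (pullSec g₁ _ e₁ (Scheme.Modules.Hom.app (hm h i) P (pullSec (f i) M eP x))) =
      (cT (f j) g₂ q h₂ N).hom.app T (pullSec g₂ _ e₂ (Scheme.Modules.Hom.app (hm h j) Q (pullSec (f j) M eQ x))) := by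
  refine (congrArg _ (QCoh.pullSec_natural g₁ (hm h i) e₁ _).symm).trans
    (Eq.trans ?_ (congrArg _ (QCoh.pullSec_natural g₂ (hm h j) e₂ _)))
  have hc := h.comm q g₁ g₂ h₁ h₂
  dsimp only [Pseudofunctor.toDescentData, Pseudofunctor.DescentData.ofObj] at hc
  refine comm_aux ((Scheme.Modules.pullback g₁).map (hm h i)) ((Scheme.Modules.pullback g₂).map (hm h j))
    (cT (f i) g₁ q h₁ N) (cT (f j) g₂ q h₂ N) (cT (f i) g₁ q h₁ M) (cT (f j) g₂ q h₂ M) hc _ _ ?_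
  rw [cT_hom_pullSec (f i) g₁ q h₁ M eP e₁ e x, cT_hom_pullSec (f j) g₂ q h₂ M eQ e₂ e x]

/-- The relation defining the descended morphism. -/
def Rel (h : (Desc.modPF.{u}.toDescentData f).obj M ⟶ (Desc.modPF.{u}.toDescentData f).obj N)
    (U : S.Opens) (x : Γ(M, U)) (y : Γ(N, U)) : Prop :=
  ∀ (i : ι) (P : (X i).Opens) (e : P ≤ f i ⁻¹ᵁ U),
    pullSec (f i) N e y = Scheme.Modules.Hom.app (hm h i) P (pullSec (f i) M e x)

variable {f M N}

theorem Rel.mono {h : (Desc.modPF.{u}.toDescentData f).obj M ⟶ (Desc.modPF.{u}.toDescentData f).obj N} {U U' : S.Opens}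
    {x : Γ(M, U)} {y : Γ(N, U)} (hr : Rel f M N h U x y) (e : U' ≤ U) :
    Rel f M N h U' (mres M e x) (mres N e y) := fun i P eP => by
  have e' : P ≤ f i ⁻¹ᵁ U := eP.trans ((f i).preimage_mono e)
  rw [← FundIso27.pullSec_mres (f i) N e' eP e le_rfl, hr i P e', ← FundIso27.pullSec_mres (f i) M e' eP e le_rfl]
  exact (EtQc13.app_map _ (homOfLE (le_refl P)) _).symm

section Affine

variable (hflat : ∀ i, Flat (f i)) [N.IsQuasicoherent] {V : S.Opens} (hV : IsAffineOpen V)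
  {κ : Type u} [Finite κ] (ix : κ → ι) (P : ∀ k, (X (ix k)).Opens) (hP : ∀ k, IsAffineOpen (P k))
  (hle : ∀ k, P k ≤ f (ix k) ⁻¹ᵁ V) (hcov : ∀ v ∈ V, ∃ k, ∃ p ∈ P k, f (ix k) p = v)

include hflat hV hP hle hcov

theorem eq_of_pullSec (y y' : Γ(N, V)) (he : ∀ k, pullSec (f (ix k)) N (hle k) y = pullSec (f (ix k)) N (hle k) y') :
    y = y' := by
  letI : ∀ k, Algebra Γ(S, V) Γ(X (ix k), P k) := fun k => ((f (ix k)).appLE V (P k) (hle k)).hom.toAlgebra
  refine sub_eq_zero.1 (eq_zero_of_forall (B := fun k => Γ(X (ix k), P k))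
    (fun k => haveI := hflat (ix k); HasRingHomProperty.appLE @Flat (f (ix k)) inferInstance ⟨V, hV⟩ ⟨P k, hP k⟩ (hle k))
    (fun p => ?_) _ fun k => ?_)
  · obtain ⟨k, x, hx, hxv⟩ := hcov (hV.fromSpec p) (hV.range_fromSpec.le ⟨p, rfl⟩)
    refine ⟨k, (hP k).primeIdealOf ⟨x, hx⟩, hV.fromSpec.isOpenEmbedding.injective ?_⟩
    have := congrArg (fun m : Spec Γ(X (ix k), P k) ⟶ S => m ((hP k).primeIdealOf ⟨x, hx⟩))
      (hV.SpecMap_appLE_fromSpec (f (ix k)) (hP k) (hle k))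
    simp only [Scheme.Hom.comp_apply, (hP k).fromSpec_primeIdealOf] at this
    exact this.trans hxv
  · refine (QCoh.bijective_sectionsMap (f (ix k)) N (hle k) rfl hV (hP k)).1 ?_
    rw [map_zero, QCoh.sectionsMap_tmul, one_smul, map_sub, he, sub_self]

theorem exists_of_fam (h : (Desc.modPF.{u}.toDescentData f).obj M ⟶ (Desc.modPF.{u}.toDescentData f).obj N)
    (x : Γ(M, V)) : ∃ y : Γ(N, V), ∀ k, pullSec (f (ix k)) N (hle k) y =
      Scheme.Modules.Hom.app (hm h (ix k)) (P k) (pullSec (f (ix k)) M (hle k) x) := by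
  letI : ∀ k, Algebra Γ(S, V) Γ(X (ix k), P k) := fun k => ((f (ix k)).appLE V (P k) (hle k)).hom.toAlgebra
  choose z hz using fun k => (QCoh.bijective_sectionsMap (f (ix k)) N (hle k) rfl hV (hP k)).2
    (Scheme.Modules.Hom.app (hm h (ix k)) (P k) (pullSec (f (ix k)) M (hle k) x))
  suffices ∃ y : Γ(N, V), ∀ k, (1 : Γ(X (ix k), P k)) ⊗ₜ[Γ(S, V)] y = z k by
    obtain ⟨y, hy⟩ := this
    refine ⟨y, fun k => ?_⟩
    rw [← hz k, ← hy k, QCoh.sectionsMap_tmul, one_smul]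
  refine exists_descend (B := fun k => Γ(X (ix k), P k))
    (fun k => haveI := hflat (ix k); HasRingHomProperty.appLE @Flat (f (ix k)) inferInstance ⟨V, hV⟩ ⟨P k, hP k⟩ (hle k))
    (fun p => ?_) z fun k l => ?_
  · obtain ⟨k, x, hx, hxv⟩ := hcov (hV.fromSpec p) (hV.range_fromSpec.le ⟨p, rfl⟩)
    refine ⟨k, (hP k).primeIdealOf ⟨x, hx⟩, hV.fromSpec.isOpenEmbedding.injective ?_⟩
    have := congrArg (fun m : Spec Γ(X (ix k), P k) ⟶ S => m ((hP k).primeIdealOf ⟨x, hx⟩))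
      (hV.SpecMap_appLE_fromSpec (f (ix k)) (hP k) (hle k))
    simp only [Scheme.Hom.comp_apply, (hP k).fromSpec_primeIdealOf] at this
    exact this.trans hxv
  · let R := Γ(X (ix k), P k) ⊗[Γ(S, V)] Γ(X (ix l), P l)
    let W : Scheme.{u} := Spec (CommRingCat.of R)
    let φ₁ : Γ(X (ix k), P k) ⟶ CommRingCat.of R := CommRingCat.ofHom
      (Algebra.TensorProduct.includeLeft : Γ(X (ix k), P k) →ₐ[Γ(S, V)] R).toRingHom
    let φ₂ : Γ(X (ix l), P l) ⟶ CommRingCat.of R := CommRingCat.ofHom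
      (Algebra.TensorProduct.includeRight : Γ(X (ix l), P l) →ₐ[Γ(S, V)] R).toRingHom
    let φ : Γ(S, V) ⟶ CommRingCat.of R := CommRingCat.ofHom (algebraMap Γ(S, V) R)
    let g₁ : W ⟶ X (ix k) := Spec.map φ₁ ≫ (hP k).fromSpec
    let g₂ : W ⟶ X (ix l) := Spec.map φ₂ ≫ (hP l).fromSpec
    let q : W ⟶ S := Spec.map φ ≫ hV.fromSpec
    have hf₁ : (f (ix k)).appLE V (P k) (hle k) ≫ φ₁ = φ := by
      ext a
      exact (Algebra.TensorProduct.includeLeft : Γ(X (ix k), P k) →ₐ[Γ(S, V)] R).commutes a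
    have hf₂ : (f (ix l)).appLE V (P l) (hle l) ≫ φ₂ = φ := by
      ext a
      exact (Algebra.TensorProduct.includeRight : Γ(X (ix l), P l) →ₐ[Γ(S, V)] R).commutes a
    have h₁ : g₁ ≫ f (ix k) = q := by
      simp only [g₁, q, Category.assoc, ← hV.SpecMap_appLE_fromSpec (f (ix k)) (hP k) (hle k), ← hf₁, Spec.map_comp]
    have h₂ : g₂ ≫ f (ix l) = q := by
      simp only [g₂, q, Category.assoc, ← hV.SpecMap_appLE_fromSpec (f (ix l)) (hP l) (hle l), ← hf₂, Spec.map_comp]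
    have t₁ : (⊤ : W.Opens) ≤ g₁ ⁻¹ᵁ P k := fun w _ => (hP k).range_fromSpec.le ⟨_, rfl⟩
    have t₂ : (⊤ : W.Opens) ≤ g₂ ⁻¹ᵁ P l := fun w _ => (hP l).range_fromSpec.le ⟨_, rfl⟩
    have t : (⊤ : W.Opens) ≤ q ⁻¹ᵁ V := fun w _ => hV.range_fromSpec.le ⟨_, rfl⟩
    letI : Algebra Γ(S, V) Γ(W, ⊤) := (q.appLE V ⊤ t).hom.toAlgebra
    let ψ : R ≃ₐ[Γ(S, V)] Γ(W, ⊤) := AlgEquiv.ofRingEquiv
      (f := (Scheme.ΓSpecIso (CommRingCat.of R)).commRingCatIsoToRingEquiv.symm) (fun a => by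
        show _ = q.appLE V ⊤ t a
        rw [fromSpec_appLE hV φ t]
        rfl)
    have a₁ : ∀ b, g₁.appLE (P k) ⊤ t₁ b = ψ (b ⊗ₜ 1) := fun b => by
      rw [fromSpec_appLE (hP k) φ₁ t₁]
      rfl
    have a₂ : ∀ b, g₂.appLE (P l) ⊤ t₂ b = ψ (1 ⊗ₜ b) := fun b => by
      rw [fromSpec_appLE (hP l) φ₂ t₂]
      rfl
    have e₁ : ∀ w, (cT (f (ix k)) g₁ q h₁ N).hom.app ⊤ (pullSec g₁ _ t₁ (sectionsMap (f (ix k)) N (hle k) rfl w)) =
        sectionsMap q N t rfl ((ψ.toLinearMap ∘ₗ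
          (Algebra.TensorProduct.includeLeft : Γ(X (ix k), P k) →ₐ[Γ(S, V)] R).toLinearMap).rTensor _ w) := fun w => by
      induction w using TensorProduct.induction_on with
      | zero => simp
      | tmul b n =>
        rw [QCoh.sectionsMap_tmul, QCoh.pullSec_smul, Scheme.Modules.Hom.app_smul, a₁,
          cT_hom_pullSec (f (ix k)) g₁ q h₁ N (hle k) t₁ t, LinearMap.rTensor_tmul]
        exact (QCoh.sectionsMap_tmul q N t rfl _ _).symm
      | add a b ha hb => simp only [map_add, ha, hb]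
    have e₂ : ∀ w, (cT (f (ix l)) g₂ q h₂ N).hom.app ⊤ (pullSec g₂ _ t₂ (sectionsMap (f (ix l)) N (hle l) rfl w)) =
        sectionsMap q N t rfl ((ψ.toLinearMap ∘ₗ
          (Algebra.TensorProduct.includeRight : Γ(X (ix l), P l) →ₐ[Γ(S, V)] R).toLinearMap).rTensor _ w) := fun w => by
      induction w using TensorProduct.induction_on with
      | zero => simp
      | tmul b n =>
        rw [QCoh.sectionsMap_tmul, QCoh.pullSec_smul, Scheme.Modules.Hom.app_smul, a₂,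
          cT_hom_pullSec (f (ix l)) g₂ q h₂ N (hle l) t₂ t, LinearMap.rTensor_tmul]
        exact (QCoh.sectionsMap_tmul q N t rfl _ _).symm
      | add a b ha hb => simp only [map_add, ha, hb]
    have := comm_sec f M N h x (hle k) (hle l) g₁ g₂ q h₁ h₂ t₁ t₂ t
    rw [← hz k, ← hz l, e₁, e₂, LinearMap.rTensor_comp_apply, LinearMap.rTensor_comp_apply] at this
    exact (LinearEquiv.rTensor _ ψ.toLinearEquiv).injective
      ((QCoh.bijective_sectionsMap q N t rfl hV (isAffineOpen_top _)).1 this)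

end Affine

variable {ι : Type u} {S : Scheme.{u}} {X : ι → Scheme.{u}} {f : ∀ i, X i ⟶ S} {M N : S.Modules}

theorem exists_fam (hf : Presieve.ofArrows X f ∈ Scheme.fpqcPrecoverage S) {V : S.Opens} (hV : IsAffineOpen V) :
    ∃ (κ : Type u) (_ : Finite κ) (ix : κ → ι) (P : ∀ k, (X (ix k)).Opens) (_ : ∀ k, IsAffineOpen (P k))
      (_ : ∀ k, P k ≤ f (ix k) ⁻¹ᵁ V), ∀ v ∈ V, ∃ k, ∃ p ∈ P k, f (ix k) p = v := by
  let E : PreZeroHypercover.{u} S := ⟨ι, X, f⟩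
  haveI : QuasiCompactCover E := Scheme.presieve₀_mem_qcPrecoverage_iff.1 hf.1
  obtain ⟨n, a, P, hP, heq⟩ := QuasiCompactCover.exists_isAffineOpen_of_isCompact E hV.isCompact
  refine ⟨ULift.{u} (Fin n), inferInstance, fun k => a k.down, fun k => P k.down, fun k => hP k.down,
    fun k p hp => ?_, fun v hv => ?_⟩
  · exact heq.le (Set.mem_iUnion.2 ⟨k.down, p, hp, rfl⟩)
  · obtain ⟨k, p, hp, hpv⟩ := Set.mem_iUnion.1 (heq.ge hv)
    exact ⟨⟨k⟩, p, hp, hpv⟩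

theorem flat_of_mem (hf : Presieve.ofArrows X f ∈ Scheme.fpqcPrecoverage S) (i : ι) : Flat (f i) :=
  ((Scheme.ofArrows_mem_precoverage_iff @Flat).1 hf.2).2 i

variable (hf : Presieve.ofArrows X f ∈ Scheme.fpqcPrecoverage S) [N.IsQuasicoherent]

include hf

theorem eq_of_forall_pullSec {U : S.Opens} (y y' : Γ(N, U))
    (he : ∀ (i : ι) (P : (X i).Opens) (e : P ≤ f i ⁻¹ᵁ U), pullSec (f i) N e y = pullSec (f i) N e y') : y = y' := by
  refine TopCat.Sheaf.eq_of_locally_eq' ⟨N.presheaf, N.isSheaf⟩ (fun V : {V : S.affineOpens // V.1 ≤ U} => V.1.1) U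
    (fun V => homOfLE V.2) (fun v hv => ?_) y y' fun V => ?_
  · obtain ⟨_, ⟨V, hV, rfl⟩, hvV, hVU⟩ := S.isBasis_affineOpens.exists_subset_of_mem_open hv U.2
    exact Opens.mem_iSup.2 ⟨⟨⟨V, hV⟩, hVU⟩, hvV⟩
  · obtain ⟨κ, _, ix, P, hP, hle, hcov⟩ := exists_fam hf V.1.2
    refine eq_of_pullSec (flat_of_mem hf) V.1.2 ix P hP hle hcov (mres N V.2 y) (mres N V.2 y') fun k => ?_
    have e' : P k ≤ f (ix k) ⁻¹ᵁ U := (hle k).trans ((f (ix k)).preimage_mono V.2)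
    rw [← FundIso27.pullSec_mres (f (ix k)) N e' (hle k) V.2 le_rfl, ← FundIso27.pullSec_mres (f (ix k)) N e' (hle k) V.2 le_rfl,
      he (ix k) (P k) e']

variable (h : (Desc.modPF.{u}.toDescentData f).obj M ⟶ (Desc.modPF.{u}.toDescentData f).obj N)

theorem exists_rel_affine {V : S.Opens} (hV : IsAffineOpen V) (x : Γ(M, V)) : ∃ y, Rel f M N h V x y := by
  obtain ⟨κ, _, ix, P, hP, hle, hcov⟩ := exists_fam hf hV
  obtain ⟨y, hy⟩ := exists_of_fam (flat_of_mem hf) hV ix P hP hle hcov h x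
  refine ⟨y, fun i Q eQ => ?_⟩
  refine TopCat.Sheaf.eq_of_locally_eq' ⟨((Scheme.Modules.pullback (f i)).obj N).presheaf,
    ((Scheme.Modules.pullback (f i)).obj N).isSheaf⟩ (fun T : {T : (X i).affineOpens // T.1 ≤ Q} => T.1.1) Q
    (fun T => homOfLE T.2) (fun v hv => ?_) _ _ fun T => ?_
  · obtain ⟨_, ⟨T, hT, rfl⟩, hvT, hTQ⟩ := (X i).isBasis_affineOpens.exists_subset_of_mem_open hv Q.2
    exact Opens.mem_iSup.2 ⟨⟨⟨T, hT⟩, hTQ⟩, hvT⟩
  · let ix' : Option κ → ι := fun o => o.elim i ix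
    let P' : ∀ o, (X (ix' o)).Opens := fun o => o.rec T.1.1 P
    have hle' : ∀ o, P' o ≤ f (ix' o) ⁻¹ᵁ V := fun o => o.rec (T.2.trans eQ) hle
    obtain ⟨y', hy'⟩ := exists_of_fam (flat_of_mem hf) hV ix' P' (fun o => o.rec T.1.2 hP) hle'
      (fun v hv => let ⟨k, hk⟩ := hcov v hv; ⟨some k, hk⟩) h x
    have hyy : y = y' := eq_of_pullSec (flat_of_mem hf) hV ix P hP hle hcov y y'
      fun k => (hy k).trans (hy' (some k)).symm
    show mres _ T.2 (pullSec (f i) N eQ y) = mres _ T.2 (Scheme.Modules.Hom.app (hm h i) Q (pullSec (f i) M eQ x))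
    have hn : mres _ T.2 (Scheme.Modules.Hom.app (hm h i) Q (pullSec (f i) M eQ x)) =
        Scheme.Modules.Hom.app (hm h i) T.1.1 (mres _ T.2 (pullSec (f i) M eQ x)) :=
      (EtQc13.app_map (hm h i) (homOfLE T.2) _).symm
    rw [hn, FundIso27.pullSec_mres (f i) N eQ (T.2.trans eQ) le_rfl T.2,
      FundIso27.pullSec_mres (f i) M eQ (T.2.trans eQ) le_rfl T.2, InvExt.mres_self, InvExt.mres_self, hyy]
    exact hy' none

theorem exists_rel (U : S.Opens) (x : Γ(M, U)) : ∃ y, Rel f M N h U x y := by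
  let I := {V : S.affineOpens // V.1 ≤ U}
  choose y hy using fun V : I => exists_rel_affine hf h V.1.2 (mres M V.2 x)
  have hcov : U ≤ ⨆ V : I, V.1.1 := fun v hv => by
    obtain ⟨_, ⟨V, hV, rfl⟩, hvV, hVU⟩ := S.isBasis_affineOpens.exists_subset_of_mem_open hv U.2
    exact Opens.mem_iSup.2 ⟨⟨⟨V, hV⟩, hVU⟩, hvV⟩
  obtain ⟨Y, hY, -⟩ := TopCat.Sheaf.existsUnique_gluing' ⟨N.presheaf, N.isSheaf⟩ (fun V : I => V.1.1) U
    (fun V => homOfLE V.2) hcov y fun V V' => eq_of_forall_pullSec hf (N := N) _ _ fun i P e => by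
      have a := (hy V).mono (inf_le_left : V.1.1 ⊓ V'.1.1 ≤ _) i P e
      have b := (hy V').mono (inf_le_right : V.1.1 ⊓ V'.1.1 ≤ _) i P e
      rw [InvExt.mres_mres] at a b
      exact a.trans b.symm
  refine ⟨Y, fun i P e => ?_⟩
  refine TopCat.Sheaf.eq_of_locally_eq' ⟨((Scheme.Modules.pullback (f i)).obj N).presheaf,
    ((Scheme.Modules.pullback (f i)).obj N).isSheaf⟩ (fun V : I => P ⊓ f i ⁻¹ᵁ V.1.1) P
    (fun V => homOfLE inf_le_left) (fun p hp => ?_) _ _ fun V => ?_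
  · obtain ⟨V, hV⟩ := Opens.mem_iSup.1 (hcov (e hp))
    exact Opens.mem_iSup.2 ⟨V, hp, hV⟩
  · show mres _ inf_le_left (pullSec (f i) N e Y) =
      mres _ inf_le_left (Scheme.Modules.Hom.app (hm h i) P (pullSec (f i) M e x))
    have hn : mres _ (inf_le_left : P ⊓ f i ⁻¹ᵁ V.1.1 ≤ P) (Scheme.Modules.Hom.app (hm h i) P (pullSec (f i) M e x)) =
        Scheme.Modules.Hom.app (hm h i) (P ⊓ f i ⁻¹ᵁ V.1.1) (mres _ inf_le_left (pullSec (f i) M e x)) :=
      (EtQc13.app_map (hm h i) (homOfLE inf_le_left) _).symm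
    rw [hn, FundIso27.pullSec_mres (f i) N e inf_le_right V.2 inf_le_left,
      FundIso27.pullSec_mres (f i) M e inf_le_right V.2 inf_le_left, show mres N V.2 Y = y V from hY V]
    exact hy V i _ inf_le_right

theorem bijective_map : Function.Bijective ((Desc.modPF.{u}.toDescentData f).map : (M ⟶ N) → _) := by
  refine ⟨fun a b hab => ?_, fun h => ?_⟩
  · refine Scheme.Modules.hom_ext _ _ fun U => ConcreteCategory.hom_ext _ _ fun x => ?_
    refine eq_of_forall_pullSec hf _ _ fun i P e => ?_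
    have := congrArg (fun m : (Desc.modPF.{u}.toDescentData f).obj M ⟶ (Desc.modPF.{u}.toDescentData f).obj N =>
      Scheme.Modules.Hom.app (m.hom i) P (pullSec (f i) M e x)) hab
    exact ((QCoh.pullSec_natural (f i) a e x).symm.trans this).trans (QCoh.pullSec_natural (f i) b e x)
  · choose φ hφ using fun U x => exists_rel hf h U x
    have huniq : ∀ U x y, Rel f M N h U x y → y = φ U x := fun U x y hy =>
      eq_of_forall_pullSec hf _ _ fun i P e => (hy i P e).trans (hφ U x i P e).symm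
    have hadd : ∀ U (a b : Γ(M, U)), φ U (a + b) = φ U a + φ U b := fun U a b => (huniq U _ _ fun i P e => by
      rw [map_add, map_add, map_add, hφ U a i P e, hφ U b i P e]).symm
    have hnat : ∀ (U U' : S.Opens) (e : U' ≤ U) (a : Γ(M, U)), φ U' (mres M e a) = mres N e (φ U a) :=
      fun U U' e a => (huniq U' _ _ ((Rel.mono (hφ U a)) e)).symm
    have hsmul : ∀ (U : S.Opens) (r : Γ(S, U)) (a : Γ(M, U)), φ U (r • a) = r • φ U a := fun U r a =>
      (huniq U _ _ fun i P e => by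
        rw [QCoh.pullSec_smul, QCoh.pullSec_smul, Scheme.Modules.Hom.app_smul, hφ U a i P e]).symm
    let T : M.presheaf ⟶ N.presheaf :=
      { app := fun U => AddCommGrpCat.ofHom (AddMonoidHom.mk' (φ U.unop) (hadd U.unop))
        naturality := fun U U' i => ConcreteCategory.hom_ext _ _ fun a => hnat U.unop U'.unop i.unop.le a }
    refine ⟨⟨PresheafOfModules.homMk T fun U r a => hsmul U.unop r a⟩, ?_⟩
    refine Pseudofunctor.DescentData.Hom.ext (funext fun i => FunMor20.pullback_hom_ext fun U s => ?_)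
    exact (QCoh.pullSec_natural (f i) _ (le_refl _) s).trans (hφ U s i _ (le_refl _))

end GrothLib.QcDesc1
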